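import Groth.Agent.AlgSpLib.Bootstrap
import Groth.Agent.ElemGlueLib.Main

/-!
# Restrictions of equivalence relations give open subsheaves of the quotient
-/

set_option backward.isDefEq.respectTransparency false
set_option backward.isDefEq.respectTransparency.types false
set_option autoImplicit false
universe u
open CategoryTheory CategoryTheory.Limits AlgebraicGeometry
open AlgSp

namespace QuotOpenLib

/-- Sections with equal image in the quotient by a groupoid scheme are locally related. -/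
theorem exists_rel {S : Scheme.{u}} {R U : Over S} (s t : R ⟶ U)
    (heqv : ∀ T : Over S, _root_.Equivalence (AlgSpLib.Rel s t T)) {T : Over S} (a b : T ⟶ U)
    (e : (yon S).map a ≫ AlgSpLib.qπ s t = (yon S).map b ≫ AlgSpLib.qπ s t) :
    ∃ (V : T.left → Over S) (c : ∀ x, V x ⟶ T), (∀ x, Flat (c x).left) ∧
      (∀ x, LocallyOfFinitePresentation (c x).left) ∧ (∀ x, x ∈ Set.range (c x).left) ∧
      ∀ x, ∃ r : V x ⟶ R, r ≫ t = c x ≫ a ∧ r ≫ s = c x ≫ b := by
  have hx : (yon S).map s ≫ AlgSpLib.toQuotSh s t = (yon S).map t ≫ AlgSpLib.toQuotSh s t := by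
    apply AlgSpLib.yEq.injective
    rw [AlgSpLib.yEq_map, AlgSpLib.yEq_map]
    have e : AlgSpLib.yEq (AlgSpLib.toQuotSh s t) =
      (toSheafify (AlgSp.J S) (AlgSpLib.quotPsh s t)).app (Opposite.op U) (Quot.mk _ ⟨𝟙 U⟩) := rfl
    rw [e, ← NatTrans.naturality_apply, ← NatTrans.naturality_apply]
    refine congrArg _ (Quot.sound ?_).symm
    exact ⟨𝟙 R, by simp, by simp⟩
  let D := coequalizer.desc (f := QuotSh.repMap Scheme.fppfPrecoverage s) (g := QuotSh.repMap Scheme.fppfPrecoverage t)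
    ((QuotSh.repIsoUliftYoneda Scheme.fppfPrecoverage U).hom ≫ AlgSpLib.toQuotSh s t) (by
      rw [← Category.assoc, AlgSpLib.repIso_naturality, ← Category.assoc, AlgSpLib.repIso_naturality, Category.assoc,
        Category.assoc, hx])
  have hD : AlgSpLib.qπ s t ≫ D = AlgSpLib.toQuotSh s t := by
    rw [AlgSpLib.qπ, Category.assoc]
    erw [coequalizer.π_desc]
    rw [Iso.inv_hom_id_assoc]
  have hab' : (yon S).map a ≫ AlgSpLib.toQuotSh s t = (yon S).map b ≫ AlgSpLib.toQuotSh s t := by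
    rw [← hD, ← Category.assoc, e, Category.assoc]
  have happ : ∀ c : T ⟶ U, AlgSpLib.yEq ((yon S).map c ≫ AlgSpLib.toQuotSh s t) =
      (toSheafify (AlgSp.J S) (AlgSpLib.quotPsh s t)).app (Opposite.op T) (Quot.mk _ ⟨c⟩) := fun c => by
    rw [AlgSpLib.yEq_map]
    have e : AlgSpLib.yEq (AlgSpLib.toQuotSh s t) =
      (toSheafify (AlgSp.J S) (AlgSpLib.quotPsh s t)).app (Opposite.op U) (Quot.mk _ ⟨𝟙 U⟩) := rfl
    rw [e, ← NatTrans.naturality_apply]
    exact congrArg _ (congrArg (Quot.mk _) (ULift.ext _ _ (Category.comp_id c)))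
  have hsieve : Presheaf.equalizerSieve (F := AlgSpLib.quotPsh s t) (X := Opposite.op T) (Quot.mk _ ⟨a⟩)
      (Quot.mk _ ⟨b⟩) ∈ AlgSp.J S T := by
    refine Presheaf.equalizerSieve_mem (AlgSp.J S) (toSheafify (AlgSp.J S) (AlgSpLib.quotPsh s t)) _ _ ?_
    rw [← happ, ← happ, hab']
  obtain ⟨V, c, hc, hcf, hcp, hcs⟩ := AlgSpLib.exists_family_of_mem hsieve
  refine ⟨V, c, hcf, hcp, hcs, fun i => ?_⟩
  have h1 : Quot.mk (AlgSpLib.Rel s t (V i)) ⟨c i ≫ a⟩ = Quot.mk _ ⟨c i ≫ b⟩ := hc i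
  exact (heqv (V i)).eqvGen_iff.1 (Quot.eqvGen_exact h1)

/-- The quotient of a restriction of a pre-equivalence relation is an open subsheaf of the quotient as soon
as the saturation of the new object is open and is covered fppf locally. -/
theorem main {S : Scheme.{u}} {R U R' U' : Over S} (s t : R ⟶ U) (g : U' ⟶ U) (s' t' : R' ⟶ U') (r : R' ⟶ R)
    (hsq : IsPullback (prod.lift t' s') r (prod.map g g) (prod.lift t s))
    (hpre : ∀ T : Over S, _root_.Equivalence (AlgSpLib.Rel s t T))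
    (W : U.left.Opens) (hW₁ : ∀ (u : U'.left) (z : R.left), t.left z = g.left u → s.left z ∈ W)
    (hW₂ : ∀ {V : Over S} (l : V ⟶ U), (∀ y, l.left y ∈ W) → ∀ y : V.left,
      ∃ (V' : Over S) (c : V' ⟶ V), Flat c.left ∧ LocallyOfFinitePresentation c.left ∧ y ∈ Set.range c.left ∧
        ∃ (u : V' ⟶ U') (ρ : V' ⟶ R), ρ ≫ t = u ≫ g ∧ ρ ≫ s = c ≫ l)
    (ψ : QuotSh.quot Scheme.fppfPrecoverage s' t' ⟶ QuotSh.quot Scheme.fppfPrecoverage s t)
    (hψ : QuotSh.quotπ Scheme.fppfPrecoverage s' t' ≫ ψ =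
      QuotSh.repMap Scheme.fppfPrecoverage g ≫ QuotSh.quotπ Scheme.fppfPrecoverage s t) :
    AlgSp.RepWith @IsOpenImmersion ψ := by
  let q := AlgSpLib.qπ s t
  let q' := AlgSpLib.qπ s' t'
  have hqq : q' ≫ ψ = (yon S).map g ≫ q := by
    change (_ ≫ QuotSh.quotπ Scheme.fppfPrecoverage s' t') ≫ ψ = _ ≫ _ ≫ QuotSh.quotπ Scheme.fppfPrecoverage s t
    rw [Category.assoc, hψ, Iso.inv_comp_eq, ← reassoc_of% (AlgSpLib.repIso_naturality g), Iso.hom_inv_id_assoc]
  have hcond := AlgSpLib.qπ_condition s t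
  have hcond' := AlgSpLib.qπ_condition s' t'
  -- injectivity
  haveI hm : Mono ψ := by
    refine AlgSpLib.mono_of_injective fun T a b e => ?_
    obtain ⟨V, c, h1, h2, h3, hl⟩ := AlgSpLib.exists_lift_of_isLocallySurjective q' a
    refine AlgSpLib.hom_ext_of_cover c h1 h2 (fun x => ⟨x, h3 x⟩) fun x => ?_
    obtain ⟨a₁, ha₁⟩ := hl x
    obtain ⟨V', c', k1, k2, k3, kl⟩ := AlgSpLib.exists_lift_of_isLocallySurjective q' ((yon S).map (c x) ≫ b)
    refine AlgSpLib.hom_ext_of_cover c' k1 k2 (fun y => ⟨y, k3 y⟩) fun y => ?_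
    obtain ⟨b₁, hb₁⟩ := kl y
    obtain ⟨a₁, rfl⟩ := (yon S).map_surjective a₁
    obtain ⟨b₁, rfl⟩ := (yon S).map_surjective b₁
    have hab : (yon S).map (c' y ≫ a₁ ≫ g) ≫ q = (yon S).map (b₁ ≫ g) ≫ q := by
      simp only [Functor.map_comp, Category.assoc, ← hqq, reassoc_of% ha₁, reassoc_of% hb₁, e]
    obtain ⟨V'', c'', m1, m2, m3, ml⟩ := exists_rel s t hpre _ _ hab
    refine AlgSpLib.hom_ext_of_cover c'' m1 m2 (fun z => ⟨z, m3 z⟩) fun z => ?_
    obtain ⟨ρ, hρ1, hρ2⟩ := ml z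
    let pa : V'' z ⟶ U' := c'' z ≫ c' y ≫ a₁
    let pb : V'' z ⟶ U' := c'' z ≫ b₁
    obtain ⟨σ, hσ⟩ : ∃ σ : V'' z ⟶ R', σ ≫ prod.lift t' s' = prod.lift pa pb :=
      ⟨hsq.lift (prod.lift pa pb) ρ (by
        apply Limits.prod.hom_ext
        · simp only [Category.assoc, Limits.prod.map_fst, Limits.prod.lift_fst_assoc, Limits.prod.lift_fst]
          exact (by simpa only [pa, Category.assoc] using hρ1.symm)
        · simp only [Category.assoc, Limits.prod.map_snd, Limits.prod.lift_snd_assoc, Limits.prod.lift_snd]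
          exact (by simpa only [pb, Category.assoc] using hρ2.symm)), hsq.lift_fst _ _ _⟩
    have e1 : σ ≫ t' = pa := by
      have := congrArg (· ≫ prod.fst) hσ
      simp only [Category.assoc, Limits.prod.lift_fst] at this
      exact this
    have e2 : σ ≫ s' = pb := by
      have := congrArg (· ≫ prod.snd) hσ
      simp only [Category.assoc, Limits.prod.lift_snd] at this
      exact this
    have key : (yon S).map pa ≫ q' = (yon S).map pb ≫ q' := by
      rw [← e1, ← e2, Functor.map_comp, Functor.map_comp, Category.assoc, Category.assoc, hcond']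
    rw [← ha₁, ← hb₁]
    simpa only [pa, pb, Functor.map_comp, Category.assoc] using key
  have hlW : ∀ {V : Over S} (l : V ⟶ U), (∀ y, l.left y ∈ W) → ∀ y : V.left,
      ∃ (V' : Over S) (c : V' ⟶ V), Flat c.left ∧ LocallyOfFinitePresentation c.left ∧ y ∈ Set.range c.left ∧
        ∃ u : V' ⟶ U', (yon S).map u ≫ q' ≫ ψ = (yon S).map (c ≫ l) ≫ q := by
    intro V l hl y
    obtain ⟨V', c, h1, h2, h3, u, ρ, e1, e2⟩ := hW₂ l hl y
    refine ⟨V', c, h1, h2, h3, u, ?_⟩
    rw [hqq, ← Functor.map_comp_assoc, ← e1, ← e2, Functor.map_comp, Functor.map_comp, Category.assoc,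
      Category.assoc, hcond]
  have hmem : ∀ {V : Over S} (l : V ⟶ U) (y : V.left),
      Points.ofPt ((yon S).map l ≫ q) y ∈ Set.range (Points.map ψ) ↔ l.left y ∈ W := by
    intro V l y
    constructor
    · rintro ⟨z, hz⟩
      obtain ⟨T, ξ, t₀, rfl⟩ := AlgSpLib.exists_ofPt_eq z
      obtain ⟨V₁, c₁, -, -, hy₁, hl₁⟩ := AlgSpLib.exists_lift_of_isLocallySurjective q' ξ
      obtain ⟨t₁, ht₁⟩ := hy₁ t₀
      obtain ⟨a, ha⟩ := hl₁ t₀
      obtain ⟨a, rfl⟩ := (yon S).map_surjective a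
      have hz' : Points.map q (Points.schemeHomeo U ((a ≫ g).left t₁)) =
          Points.map q (Points.schemeHomeo U (l.left y)) := by
        have e0 : ∀ u, Points.map q (Points.schemeHomeo U u) = Points.ofPt q u := fun u =>
          (Points.ofPt_eq_map_ofScheme q u).symm
        rw [e0, e0, ← AlgSpLib.ofPt_yon_comp, ← AlgSpLib.ofPt_yon_comp, Functor.map_comp, Category.assoc, ← hqq,
          reassoc_of% ha, AlgSpLib.ofPt_yon_comp, ht₁, ← Points.map_ofPt, hz]
      obtain ⟨κ, hκ₁, hκ₂⟩ := AlgSpLib.exists_point_isPullback (IsPullback.of_hasPullback q q) _ _ hz'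
      obtain ⟨T₂, β, t₂, rfl⟩ := AlgSpLib.exists_ofPt_eq κ
      obtain ⟨α₁, hα₁⟩ := (yon S).map_surjective (β ≫ pullback.fst q q)
      obtain ⟨α₂, hα₂⟩ := (yon S).map_surjective (β ≫ pullback.snd q q)
      obtain ⟨V₃, c₃, -, -, hy₃, hl₃⟩ := exists_rel s t hpre α₁ α₂
        (by rw [hα₁, hα₂, Category.assoc, Category.assoc, pullback.condition])
      obtain ⟨t₃, ht₃⟩ := hy₃ t₂
      obtain ⟨ρ, hρ₁, hρ₂⟩ := hl₃ t₂
      have p₁ : α₁.left t₂ = (a ≫ g).left t₁ := by
        rw [Points.map_ofPt, ← hα₁, AlgSpLib.ofPt_yon_map] at hκ₁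
        exact (Points.schemeHomeo U).injective hκ₁
      have p₂ : α₂.left t₂ = l.left y := by
        rw [Points.map_ofPt, ← hα₂, AlgSpLib.ofPt_yon_map] at hκ₂
        exact (Points.schemeHomeo U).injective hκ₂
      have htp : t.left (ρ.left t₃) = g.left (a.left t₁) := by
        have := congrArg (fun k => k.left t₃) hρ₁
        refine (Scheme.Hom.comp_apply _ _ _).symm.trans (this.trans ?_)
        rw [Over.comp_left, Scheme.Hom.comp_apply, ht₃, p₁, Over.comp_left, Scheme.Hom.comp_apply]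
      have hsp : s.left (ρ.left t₃) = l.left y := by
        have := congrArg (fun k => k.left t₃) hρ₂
        refine (Scheme.Hom.comp_apply _ _ _).symm.trans (this.trans ?_)
        rw [Over.comp_left, Scheme.Hom.comp_apply, ht₃, p₂]
      rw [← hsp]
      exact hW₁ _ _ htp
    · intro hy
      let O : V.left.Opens := l.left ⁻¹ᵁ W
      let V₁ : Over S := Over.mk (O.ι ≫ V.hom)
      let o : V₁ ⟶ V := Over.homMk O.ι rfl
      obtain ⟨V', c, -, -, ⟨y', hy'⟩, u, hu⟩ := hlW (o ≫ l) (fun z => z.2) ⟨y, hy⟩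
      refine ⟨Points.map q' (Points.schemeHomeo U' (u.left y')), ?_⟩
      have : Points.map ψ (Points.map q' (Points.schemeHomeo U' (u.left y'))) =
          Points.ofPt ((yon S).map u ≫ q' ≫ ψ) y' := by
        rw [AlgSpLib.ofPt_yon_comp, ← Points.map_comp]
        exact (Points.ofPt_eq_map_ofScheme (q' ≫ ψ) _).symm
      rw [this, hu, Functor.map_comp, Category.assoc, AlgSpLib.ofPt_yon_comp, hy', Functor.map_comp, Category.assoc,
        AlgSpLib.ofPt_yon_comp]
      rfl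
  have hopen : IsOpen (Set.range (Points.map ψ)) := by
    refine Points.isOpen_iff.2 fun T ξ => isOpen_iff_forall_mem_open.2 fun t ht => ?_
    obtain ⟨V, c, h1, h2, h3, hl⟩ := AlgSpLib.exists_lift_of_isLocallySurjective q ξ
    obtain ⟨t₁, ht₁⟩ := h3 t
    obtain ⟨l, hl⟩ := hl t
    obtain ⟨l, rfl⟩ := (yon S).map_surjective l
    have := h1 t
    have := h2 t
    have hiff : ∀ y, Points.ofPt ξ ((c t).left y) ∈ Set.range (Points.map ψ) ↔ l.left y ∈ W := fun y => by
      rw [← AlgSpLib.ofPt_yon_comp, ← hl]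
      exact hmem l y
    refine ⟨(c t).left '' (l.left ⁻¹' (W : Set ↥U.left)), ?_, (c t).left.isOpenMap _ (W.2.preimage l.left.continuous), ⟨t₁, ?_, ht₁⟩⟩
    · rintro _ ⟨y, hy, rfl⟩
      exact (hiff y).2 hy
    · refine (hiff t₁).1 ?_
      rw [ht₁]
      exact ht
  let O := AlgSpLib.openSubι (QuotSh.quot Scheme.fppfPrecoverage s t) (Set.range (Points.map ψ))
  have hr : RepWith @IsOpenImmersion O := AlgSpLib.repWith_openSubι _ hopen
  obtain ⟨g₀, hg₀⟩ := (AlgSpLib.exists_factor_iff hr ψ).2 (by rw [AlgSpLib.range_openSubι])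
  haveI : Mono g₀ := mono_of_mono_fac hg₀
  haveI : Sheaf.IsLocallySurjective g₀ := ElemGlueLib.isLocallySurjective_of_lifts g₀ fun T ξ t => by
    obtain ⟨V, c, h1, h2, h3, hl⟩ := AlgSpLib.exists_lift_of_isLocallySurjective q (ξ ≫ O)
    obtain ⟨t₁, ht₁⟩ := h3 t
    obtain ⟨l, hl⟩ := hl t
    obtain ⟨l, rfl⟩ := (yon S).map_surjective l
    obtain ⟨V', c', k1, k2, ⟨t₂, ht₂⟩, u, hu⟩ := hlW l (fun y => (hmem l y).1 (by
      rw [hl]
      exact (AlgSpLib.exists_lift_openSub _).1 ⟨(yon S).map (c t) ≫ ξ, Category.assoc _ _ _⟩ y)) t₁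
    have := h1 t
    have := h2 t
    refine ⟨V', c' ≫ c t, by rw [Over.comp_left]; infer_instance, by rw [Over.comp_left]; infer_instance,
      ⟨t₂, by rw [Over.comp_left, Scheme.Hom.comp_apply, ht₂, ht₁]⟩, (yon S).map u ≫ q', ?_⟩
    rw [← cancel_mono O, Category.assoc, hg₀, Category.assoc, hu, Functor.map_comp, Category.assoc, hl,
      Functor.map_comp, Category.assoc, Category.assoc]
  haveI := AlgSpLib.isIso_of_mono_isLocallySurjective g₀
  rw [← hg₀]
  exact AlgSpLib.repWith_comp (AlgSpLib.repWith_of_isIso g₀) hr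

end QuotOpenLib
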